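import Cfsg.Agent.MinDegree.Transvection
import Cfsg.Agent.Characters.Classes
import Cfsg.Agent.Characters.Generalized
import Cfsg.Agent.Characters.Linear

/-!
# The monomial constituents of `SL n` on nonzero vectors

For a linear character `μ` of the scalars, `pc μ` is the character of `SL n F` on the `μ`-eigenfunctions of
`F ^ n \ 0`.  For `n ≥ 3` their inner products are `δ(μ, ν) + δ(μ, 1) δ(ν, 1)`.
-/

set_option autoImplicit false
set_option linter.unusedSectionVars false
set_option linter.unusedVariables false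

namespace CfsgLib.LinearPoints

open Matrix Finset
open scoped ComplexConjugate

section generic

variable {G K X : Type*} [Group G] [Fintype G] [CommGroup K] [Fintype K] [Fintype X] [MulAction G X]
  [MulAction K X] [SMulCommClass G K X]

/-- The trace of `g` on the `μ`-eigenfunctions. -/
noncomputable def pchar (X : Type*) [MulAction G X] [MulAction K X] (μ : K →* ℂˣ) (g : G) : ℂ :=
  (Fintype.card K : ℂ)⁻¹ * ∑ c : K, (μ c : ℂ) * (Nat.card {x : X // g • x = c • x} : ℂ)

theorem sum_units_hom (μ : K →* ℂˣ) [Decidable (μ = 1)] :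
    ∑ c : K, (μ c : ℂ) = if μ = 1 then (Fintype.card K : ℂ) else 0 := by
  split_ifs with h
  · simp [h]
  · refine sum_hom_units_eq_zero ((Units.coeHom ℂ).comp μ) fun h1 => h (MonoidHom.ext fun c => Units.ext ?_)
    exact DFunLike.congr_fun h1 c

theorem conj_hom (μ : K →* ℂˣ) (c : K) : conj (μ c : ℂ) = (μ c⁻¹ : ℂ) := by
  rw [map_inv, Units.val_inv_eq_inv_val, Complex.inv_eq_conj]
  have h1 : (μ c : ℂ) ^ Fintype.card K = 1 := by
    rw [← Units.val_pow_eq_pow_val, ← map_pow, pow_card_eq_one, map_one, Units.val_one]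
  exact Complex.norm_eq_one_of_pow_eq_one h1 Fintype.card_ne_zero

theorem isCharacter_pchar (μ : K →* ℂˣ) : Cfsg.IsCharacter G (pchar X μ) := by
  classical
  let ρ : Representation ℂ G (X → ℂ) :=
    { toFun := fun g =>
        { toFun := fun f x => f (g⁻¹ • x)
          map_add' := fun _ _ => rfl
          map_smul' := fun _ _ => rfl }
      map_one' := LinearMap.ext fun f => funext fun x => by simp
      map_mul' := fun g h => LinearMap.ext fun f => funext fun x => by simp [mul_smul] }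
  let e : (X → ℂ) →ₗ[ℂ] (X → ℂ) :=
    { toFun := fun f x => (Fintype.card K : ℂ)⁻¹ * ∑ c : K, (μ c : ℂ) * f (c • x)
      map_add' := fun f f' => funext fun x => by simp [mul_add, Finset.sum_add_distrib]
      map_smul' := fun a f => funext fun x => by
        simp only [Pi.smul_apply, smul_eq_mul, RingHom.id_apply, Finset.mul_sum]
        exact Finset.sum_congr rfl fun c _ => by ring }
  have hee : ∀ f, e (e f) = e f := by
    intro f
    funext x
    have key : ∀ c : K, (μ c : ℂ) * e f (c • x) = e f x := by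
      intro c
      show (μ c : ℂ) * ((Fintype.card K : ℂ)⁻¹ * ∑ d : K, (μ d : ℂ) * f (d • c • x)) =
        (Fintype.card K : ℂ)⁻¹ * ∑ d : K, (μ d : ℂ) * f (d • x)
      rw [mul_left_comm, Finset.mul_sum]
      congr 1
      refine Fintype.sum_equiv (Equiv.mulRight c) _ _ fun d => ?_
      simp only [Equiv.coe_mulRight, map_mul, Units.val_mul, ← mul_smul]
      ring
    show (Fintype.card K : ℂ)⁻¹ * ∑ c : K, (μ c : ℂ) * e f (c • x) = e f x
    simp only [key, Finset.sum_const, Finset.card_univ, nsmul_eq_mul]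
    rw [← mul_assoc, inv_mul_cancel₀ (Nat.cast_ne_zero.mpr Fintype.card_ne_zero), one_mul]
  have hcomm : ∀ g f, ρ g (e f) = e (ρ g f) := by
    intro g f
    funext x
    show (Fintype.card K : ℂ)⁻¹ * ∑ c : K, (μ c : ℂ) * f (c • g⁻¹ • x) =
      (Fintype.card K : ℂ)⁻¹ * ∑ c : K, (μ c : ℂ) * f (g⁻¹ • c • x)
    simp only [smul_comm g⁻¹]
  let W := LinearMap.range e
  have hinv : ∀ g, ∀ f ∈ W, ρ g f ∈ W := by
    rintro g _ ⟨f, rfl⟩
    exact ⟨ρ g f, (hcomm g f).symm⟩
  let σ : Representation ℂ G W :=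
    { toFun := fun g => (ρ g).restrict (hinv g)
      map_one' := LinearMap.ext fun f => Subtype.ext (by simp)
      map_mul' := fun g h => LinearMap.ext fun f => Subtype.ext (by simp) }
  suffices h : σ.character = pchar X μ by
    rw [← h]
    exact CfsgLib.Characters.isCharacter_character σ
  funext g
  have h1 : σ g = (e.rangeRestrict ∘ₗ ρ g) ∘ₗ W.subtype := by
    refine LinearMap.ext fun f => Subtype.ext ?_
    show ρ g f.1 = e (ρ g f.1)
    obtain ⟨f₀, hf₀⟩ := f.2
    rw [← hf₀, hcomm, hee]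
  show LinearMap.trace ℂ W (σ g) = _
  rw [h1, LinearMap.trace_comp_comm']
  have h2 : W.subtype ∘ₗ (e.rangeRestrict ∘ₗ ρ g) = e ∘ₗ ρ g := rfl
  rw [h2, LinearMap.trace_eq_matrix_trace ℂ (Pi.basisFun ℂ X), Matrix.trace]
  simp only [Matrix.diag_apply, LinearMap.toMatrix_apply, Pi.basisFun_apply, Pi.basisFun_repr]
  show ∑ x, (Fintype.card K : ℂ)⁻¹ * ∑ c : K, (μ c : ℂ) * (Pi.single x 1 : X → ℂ) (g⁻¹ • c • x) = pchar X μ g
  rw [← Finset.mul_sum, Finset.sum_comm, pchar]
  congr 1
  refine Finset.sum_congr rfl fun c _ => ?_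
  rw [← Finset.mul_sum]
  congr 1
  simp only [Pi.single_apply, Finset.sum_boole, inv_smul_eq_iff, Nat.card_eq_fintype_card, Fintype.card_subtype,
    eq_comm (a := c • _)]

/-- The number of elements taking `a` to `b` under a transitive action. -/
theorem card_fiber {Y : Type*} [Fintype Y] [MulAction G Y] (h : ∀ a b : Y, ∃ g : G, g • a = b) (a b : Y) :
    Nat.card {g : G // g • a = b} * Fintype.card Y = Fintype.card G := by
  classical
  have key : ∀ b' : Y, Nat.card {g : G // g • a = b'} = Nat.card {g : G // g • a = b} := by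
    intro b'
    obtain ⟨k, hk⟩ := h b' b
    refine Nat.card_congr ((Equiv.mulLeft k).subtypeEquiv fun g => ?_)
    rw [Equiv.coe_mulLeft, mul_smul]
    exact ⟨fun e => by rw [e, hk], fun e => smul_left_cancel k (e.trans hk.symm)⟩
  rw [← Nat.card_eq_fintype_card (α := G), ← Nat.card_congr (Equiv.sigmaFiberEquiv fun g : G => g • a),
    Nat.card_sigma, Finset.sum_congr rfl (fun b' _ => key b'), Finset.sum_const, Finset.card_univ, smul_eq_mul,
    mul_comm]

theorem classInner_pchar_one [DecidableEq X] (h : ∀ a b : X, ∃ g : G, g • a = b) [Nonempty X] (μ : K →* ℂˣ)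
    [Decidable (μ = 1)] : Cfsg.classInner (pchar X μ : G → ℂ) (fun _ => 1) = if μ = 1 then 1 else 0 := by
  classical
  have key : ∀ c : K, ∑ g : G, (Nat.card {x : X // g • x = c • x} : ℂ) = Fintype.card G := by
    intro c
    rw [← Nat.cast_sum]
    congr 1
    simp only [Nat.card_eq_fintype_card, Fintype.card_subtype, Finset.card_filter]
    rw [Finset.sum_comm]
    simp only [← Finset.card_filter, ← Fintype.card_subtype, ← Nat.card_eq_fintype_card]
    obtain ⟨x₀⟩ := ‹Nonempty X›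
    have h2 : ∀ x : X, Nat.card {g : G // g • x = c • x} = Fintype.card G / Fintype.card X := fun x => by
      rw [← card_fiber h x (c • x), Nat.mul_div_cancel _ (Fintype.card_pos_iff.mpr ⟨x⟩)]
    rw [Finset.sum_congr rfl (fun x _ => h2 x), Finset.sum_const, Finset.card_univ, smul_eq_mul,
      Nat.mul_div_cancel' ⟨_, ((mul_comm _ _).trans (card_fiber h x₀ x₀)).symm⟩, Nat.card_eq_fintype_card]
  rw [Cfsg.classInner, Nat.card_eq_fintype_card (α := G)]
  simp only [pchar, map_one, mul_one, ← Finset.mul_sum]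
  rw [Finset.sum_comm]
  simp only [← Finset.mul_sum, key, ← Finset.sum_mul, sum_units_hom]
  split_ifs with hμ
  · field_simp
  · simp

/-- The two-point count. -/
theorem classInner_pchar (N : K → K → ℂ)
    (hN : ∀ c d, ∑ g : G, (Nat.card {x : X // g • x = c • x} : ℂ) * (Nat.card {x : X // g • x = d • x} : ℂ) =
      Fintype.card G * N c d) (μ ν : K →* ℂˣ) :
    Cfsg.classInner (pchar X μ : G → ℂ) (pchar X ν) =
      ((Fintype.card K : ℂ) ^ 2)⁻¹ * ∑ c : K, ∑ d : K, (μ c : ℂ) * (ν d⁻¹ : ℂ) * N c d := by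
  rw [Cfsg.classInner]
  simp only [pchar, map_mul, map_inv₀, map_sum, map_natCast, conj_hom]
  have : ∀ g : G, (Fintype.card K : ℂ)⁻¹ * (∑ c : K, (μ c : ℂ) * (Nat.card {x : X // g • x = c • x} : ℂ)) *
      ((Fintype.card K : ℂ)⁻¹ * ∑ d : K, (ν d⁻¹ : ℂ) * (Nat.card {x : X // g • x = d • x} : ℂ)) =
      ((Fintype.card K : ℂ) ^ 2)⁻¹ * ∑ c : K, ∑ d : K, (μ c : ℂ) * (ν d⁻¹ : ℂ) *
        ((Nat.card {x : X // g • x = c • x} : ℂ) * (Nat.card {x : X // g • x = d • x} : ℂ)) := by
    intro g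
    rw [mul_mul_mul_comm, Finset.sum_mul_sum, sq, mul_inv]
    congr 1
    exact Finset.sum_congr rfl fun c _ => Finset.sum_congr rfl fun d _ => by ring
  rw [Finset.sum_congr rfl fun g _ => this g, ← Finset.mul_sum, Finset.sum_comm, Nat.card_eq_fintype_card,
    mul_left_comm]
  congr 1
  rw [Finset.mul_sum]
  refine Finset.sum_congr rfl fun c _ => ?_
  rw [Finset.sum_comm, Finset.mul_sum]
  refine Finset.sum_congr rfl fun d _ => ?_
  rw [← Finset.mul_sum, hN]
  field_simp

end generic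

section SL

variable {F : Type*} [Field F] [Fintype F] [DecidableEq F] {n : ℕ}

/-- Nonzero vectors. -/
abbrev NZ (F : Type*) [Field F] (n : ℕ) : Type _ := {v : Fin n → F // v ≠ 0}

instance instActionSL : MulAction (Matrix.SpecialLinearGroup (Fin n) F) (NZ F n) where
  smul g v := ⟨g.1 *ᵥ v.1, fun h => v.2 (by
    have := congrArg ((g⁻¹).1 *ᵥ ·) h
    change (g⁻¹).1 *ᵥ (g.1 *ᵥ v.1) = (g⁻¹).1 *ᵥ 0 at this
    rwa [← CfsgLib.MinDegree.mul_mulVec, inv_mul_cancel, CfsgLib.MinDegree.sl_one_mulVec, Matrix.mulVec_zero] at this)⟩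
  one_smul v := Subtype.ext (CfsgLib.MinDegree.sl_one_mulVec v.1)
  mul_smul g h v := Subtype.ext (CfsgLib.MinDegree.mul_mulVec g h v.1)

instance instActionScalar : MulAction Fˣ (NZ F n) where
  smul c v := ⟨(c : F) • v.1, smul_ne_zero c.ne_zero v.2⟩
  one_smul v := Subtype.ext (one_smul F v.1)
  mul_smul c d v := Subtype.ext (by show ((c * d : Fˣ) : F) • v.1 = (c : F) • (d : F) • v.1; rw [Units.val_mul, mul_smul])

theorem coe_smulSL (g : Matrix.SpecialLinearGroup (Fin n) F) (v : NZ F n) : (g • v).1 = g.1 *ᵥ v.1 := rfl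

theorem coe_smulScalar (c : Fˣ) (v : NZ F n) : (c • v).1 = (c : F) • v.1 := rfl

instance instCommSL : SMulCommClass (Matrix.SpecialLinearGroup (Fin n) F) Fˣ (NZ F n) :=
  ⟨fun g c v => Subtype.ext (by simp [coe_smulSL, coe_smulScalar, Matrix.mulVec_smul])⟩

theorem transitive_NZ (hn : 2 ≤ n) (a b : NZ F n) : ∃ g : Matrix.SpecialLinearGroup (Fin n) F, g • a = b := by
  obtain ⟨g, hg⟩ := CfsgLib.MinDegree.exists_mulVec_eq (by simpa using hn) a.2 b.2
  exact ⟨g, Subtype.ext hg⟩

theorem exists_fix_map (v x w : Fin n → F) (h : ∀ a b : F, x ≠ a • v + b • (w - x)) :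
    ∃ g : Matrix.SpecialLinearGroup (Fin n) F, g.1 *ᵥ v = v ∧ g.1 *ᵥ x = w := by
  obtain ⟨φ, h1, h2, h3⟩ := CfsgLib.MinDegree.exists_perp₂ h
  exact ⟨CfsgLib.MinDegree.tv (w - x) φ, by simp [CfsgLib.MinDegree.tv_mulVec h2, h1],
    by simp [CfsgLib.MinDegree.tv_mulVec h2, h3]⟩

/-- The stabiliser of a vector is transitive on the vectors independent of it. -/
theorem exists_fix_indep (hn : 3 ≤ n) (v : NZ F n) {x w : Fin n → F} (hx : ∀ c : F, x ≠ c • v.1)
    (hw : ∀ c : F, w ≠ c • v.1) : ∃ g : Matrix.SpecialLinearGroup (Fin n) F, g.1 *ᵥ v.1 = v.1 ∧ g.1 *ᵥ x = w := by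
  obtain ⟨y, hy⟩ : ∃ y : Fin n → F, (∀ a b : F, y ≠ a • v.1 + b • x) ∧ ∀ a b : F, y ≠ a • v.1 + b • w := by
    by_cases hd : ∃ a b : F, w = a • v.1 + b • x
    · obtain ⟨y, hy⟩ := CfsgLib.MinDegree.exists_not_span_pair (F := F) (by simpa using hn) v.1 x
      obtain ⟨a₀, b₀, rfl⟩ := hd
      refine ⟨y, hy, fun a b h => hy (a + b * a₀) (b * b₀) ?_⟩
      rw [h]
      module
    · push Not at hd
      refine ⟨x + w, fun a b h => hd a (b - 1) ?_, fun a b h => ?_⟩
      · rw [sub_smul, one_smul, add_sub, ← h]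
        abel
      · rcases eq_or_ne (b - 1) 0 with hb | hb
        · rw [sub_eq_zero.mp hb, one_smul] at h
          exact hx a (add_right_cancel h)
        · refine hd (-((b - 1)⁻¹ * a)) (b - 1)⁻¹ ?_
          have : x = a • v.1 + (b - 1) • w := by
            rw [sub_smul, one_smul, add_sub, ← h]
            abel
          rw [this, smul_add, smul_smul, smul_smul, inv_mul_cancel₀ hb, one_smul, neg_smul]
          abel
  obtain ⟨g₁, h11, h12⟩ := exists_fix_map v.1 x y fun a b h => by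
    rcases eq_or_ne b 0 with rfl | hb
    · exact hx a (by simpa using h)
    · refine hy.1 (-(b⁻¹ * a)) (1 + b⁻¹) ?_
      have e : b⁻¹ • x = b⁻¹ • a • v.1 + (y - x) := by
        nth_rewrite 1 [h]
        rw [smul_add, smul_smul b⁻¹ b, inv_mul_cancel₀ hb, one_smul]
      rw [add_smul, one_smul, e, neg_smul, ← smul_smul]
      abel
  obtain ⟨g₂, h21, h22⟩ := exists_fix_map v.1 y w fun a b h => by
    rcases eq_or_ne (1 + b) 0 with hb | hb
    · have hb' : b = -1 := by linear_combination hb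
      subst hb'
      refine hw a ?_
      have h' : y = a • v.1 - w + y := by
        calc y = a • v.1 + (-1 : F) • (w - y) := h
          _ = _ := by rw [neg_one_smul]; abel
      have h'' : a • v.1 - w = 0 := add_eq_right.mp h'.symm
      exact (sub_eq_zero.mp h'').symm
    · refine hy.2 ((1 + b)⁻¹ * a) ((1 + b)⁻¹ * b) ?_
      have e : (1 + b) • y = a • v.1 + b • w := by
        rw [add_smul, one_smul]
        nth_rewrite 1 [h]
        module
      rw [← smul_smul, ← smul_smul, ← smul_add, ← e, smul_smul, inv_mul_cancel₀ hb, one_smul]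
  exact ⟨g₂ * g₁, by rw [CfsgLib.MinDegree.mul_mulVec, h11, h21],
    by rw [CfsgLib.MinDegree.mul_mulVec, h12, h22]⟩

/-- Pairs of independent vectors. -/
abbrev Indep (F : Type*) [Field F] (n : ℕ) : Type _ :=
  {p : NZ F n × NZ F n // ∀ c : F, p.2.1 ≠ c • p.1.1}

instance instActionIndep : MulAction (Matrix.SpecialLinearGroup (Fin n) F) (Indep F n) where
  smul g p := ⟨g • p.1, fun c h => p.2 c (by
    have := congrArg ((g⁻¹).1 *ᵥ ·) h
    change (g⁻¹).1 *ᵥ (g.1 *ᵥ p.1.2.1) = (g⁻¹).1 *ᵥ (c • (g.1 *ᵥ p.1.1.1)) at this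
    rwa [Matrix.mulVec_smul, ← CfsgLib.MinDegree.mul_mulVec, ← CfsgLib.MinDegree.mul_mulVec, inv_mul_cancel,
      CfsgLib.MinDegree.sl_one_mulVec, CfsgLib.MinDegree.sl_one_mulVec] at this)⟩
  one_smul p := Subtype.ext (one_smul _ p.1)
  mul_smul g h p := Subtype.ext (mul_smul g h p.1)

theorem transitive_Indep (hn : 3 ≤ n) (a b : Indep F n) :
    ∃ g : Matrix.SpecialLinearGroup (Fin n) F, g • a = b := by
  obtain ⟨g, hg⟩ := transitive_NZ (by omega) a.1.1 b.1.1
  obtain ⟨k, hk1, hk2⟩ := exists_fix_indep hn b.1.1 (x := (g • a.1.2).1) (fun c h => (g • a).2 c (by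
    show (g • a.1.2).1 = c • (g • a.1.1).1
    rw [h, hg])) b.2
  refine ⟨k * g, Subtype.ext (Prod.ext (Subtype.ext ?_) (Subtype.ext ?_))⟩
  · show ((k * g) • a.1.1).1 = _
    rw [mul_smul, hg]
    exact hk1
  · show ((k * g) • a.1.2).1 = _
    rw [mul_smul]
    exact hk2

theorem two_point_count (hn : 3 ≤ n) (c d : Fˣ) :
    ∑ g : Matrix.SpecialLinearGroup (Fin n) F,
      (Nat.card {x : NZ F n // g • x = c • x} : ℂ) * (Nat.card {x : NZ F n // g • x = d • x} : ℂ) =
    Fintype.card (Matrix.SpecialLinearGroup (Fin n) F) *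
      ((if c = d then (Fintype.card Fˣ : ℂ) else 0) + 1) := by
  classical
  set Gc := Fintype.card (Matrix.SpecialLinearGroup (Fin n) F)
  let e0 : Fin n → F := Pi.single ⟨0, by omega⟩ 1
  let e1 : Fin n → F := Pi.single ⟨1, by omega⟩ 1
  have he0 : e0 ≠ 0 := fun h => one_ne_zero (α := F) (by simpa [e0] using congrFun h ⟨0, by omega⟩)
  let v₀ : NZ F n := ⟨e0, he0⟩
  let p₀ : Indep F n := ⟨(v₀, ⟨e1, fun h => one_ne_zero (α := F) (by simpa [e1] using congrFun h ⟨1, by omega⟩)⟩),
    fun a h => by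
      have := congrFun h ⟨1, by omega⟩
      simp [e0, e1, v₀] at this⟩
  -- dependent pairs
  have hdep : ∀ (v : NZ F n) (a : Fˣ), Nat.card {g : Matrix.SpecialLinearGroup (Fin n) F //
      g • v = c • v ∧ g • (a • v) = d • a • v} = if c = d then Gc / Fintype.card (NZ F n) else 0 := by
    intro v a
    have e : ∀ g : Matrix.SpecialLinearGroup (Fin n) F,
        (g • v = c • v ∧ g • (a • v) = d • a • v) ↔ (g • v = c • v ∧ c = d) := by
      intro g
      refine and_congr_right fun hg => ?_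
      rw [smul_comm g a v, hg, ← mul_smul, ← mul_smul, mul_comm a c]
      refine ⟨fun h => ?_, fun h => by rw [h]⟩
      have h1 := congrArg Subtype.val h
      rw [coe_smulScalar, coe_smulScalar] at h1
      exact mul_right_cancel (Units.ext (smul_left_injective F v.2 h1))
    rw [Nat.card_congr (Equiv.subtypeEquivRight e)]
    split_ifs with hcd
    · rw [Nat.card_congr (Equiv.subtypeEquivRight fun g => and_iff_left hcd)]
      exact Nat.eq_div_of_mul_eq_left (Fintype.card_pos_iff.mpr ⟨v⟩).ne'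
        (card_fiber (fun a b => transitive_NZ (by omega) a b) v (c • v))
    · simp [hcd]
  -- independent pairs
  have hind : ∀ p : Indep F n, Nat.card {g : Matrix.SpecialLinearGroup (Fin n) F //
      g • p.1.1 = c • p.1.1 ∧ g • p.1.2 = d • p.1.2} = Gc / Fintype.card (Indep F n) := by
    intro p
    let p' : Indep F n := ⟨(c • p.1.1, d • p.1.2), fun a h => p.2 ((d : F)⁻¹ * (a * (c : F))) (by
      rw [coe_smulScalar, coe_smulScalar] at h
      rw [← smul_smul, ← smul_smul, ← h, inv_smul_smul₀ d.ne_zero])⟩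
    refine Nat.eq_div_of_mul_eq_left (Fintype.card_pos_iff.mpr ⟨p⟩).ne' ?_
    show _ = Fintype.card (Matrix.SpecialLinearGroup (Fin n) F)
    rw [← card_fiber (fun a b => transitive_Indep hn a b) p p']
    congr 1
    refine Nat.card_congr (Equiv.subtypeEquivRight fun g => ?_)
    exact ⟨fun h => Subtype.ext (Prod.ext h.1 h.2), fun h => ⟨congrArg (fun z => z.1.1) h, congrArg (fun z => z.1.2) h⟩⟩
  have hdiv0 : Fintype.card (NZ F n) ∣ Gc :=
    ⟨_, ((mul_comm _ _).trans (card_fiber (fun a b => transitive_NZ (by omega) a b) v₀ v₀)).symm⟩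
  have hdiv1 : Fintype.card (Indep F n) ∣ Gc :=
    ⟨_, ((mul_comm _ _).trans (card_fiber (fun a b => transitive_Indep hn a b) p₀ p₀)).symm⟩
  let E : (NZ F n × Fˣ) ⊕ Indep F n ≃ NZ F n × NZ F n := Equiv.ofBijective
    (Sum.elim (fun z => (z.1, z.2 • z.1)) Subtype.val) (by
      constructor
      · rintro (⟨v, a⟩ | p) (⟨w, b⟩ | r) h <;> dsimp only [Sum.elim] at h
        · obtain ⟨rfl, h2⟩ := Prod.ext_iff.mp h
          have h1 := congrArg Subtype.val h2
          dsimp only at h1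
          rw [coe_smulScalar, coe_smulScalar] at h1
          rw [Units.ext (smul_left_injective F v.2 h1)]
        · exact absurd (congrArg (fun z => (z.2 : NZ F n).1) h).symm (by
            obtain ⟨h1, -⟩ := Prod.ext_iff.mp h
            dsimp only at h1
            simpa [coe_smulScalar, h1] using r.2 (a : F))
        · exact absurd (congrArg (fun z => (z.2 : NZ F n).1) h) (by
            obtain ⟨h1, -⟩ := Prod.ext_iff.mp h
            dsimp only at h1
            simpa [coe_smulScalar, h1] using p.2 (b : F))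
        · rw [Subtype.ext h]
      · rintro ⟨v, w⟩
        by_cases hw : ∃ a : F, w.1 = a • v.1
        · obtain ⟨a, ha⟩ := hw
          have ha0 : a ≠ 0 := fun h0 => w.2 (by rw [ha, h0, zero_smul])
          exact ⟨Sum.inl (v, Units.mk0 a ha0), Prod.ext rfl (Subtype.ext ha.symm)⟩
        · push Not at hw
          exact ⟨Sum.inr ⟨(v, w), hw⟩, rfl⟩)
  simp only [← Nat.cast_mul, Nat.card_eq_fintype_card (α := {x : NZ F n // _}), Fintype.card_subtype,
    ← Finset.card_product]
  rw [← Nat.cast_sum]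
  have hswap : ∑ g : Matrix.SpecialLinearGroup (Fin n) F,
      ((univ.filter fun x : NZ F n => g • x = c • x) ×ˢ (univ.filter fun x : NZ F n => g • x = d • x)).card =
      ∑ z : NZ F n × NZ F n, Nat.card {g : Matrix.SpecialLinearGroup (Fin n) F //
        g • z.1 = c • z.1 ∧ g • z.2 = d • z.2} := by
    simp only [← Finset.filter_product, Finset.univ_product_univ, Finset.card_filter, Nat.card_eq_fintype_card,
      Fintype.card_subtype]
    rw [Finset.sum_comm]
  rw [hswap, ← E.sum_comp, Fintype.sum_sum_type]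
  have hl : ∀ z : NZ F n × Fˣ, E (Sum.inl z) = (z.1, z.2 • z.1) := fun z => rfl
  have hr : ∀ z : Indep F n, E (Sum.inr z) = z.1 := fun z => rfl
  simp only [hl, hr, hdep, hind, Finset.sum_const, Finset.card_univ, smul_eq_mul, Fintype.card_prod]
  rw [Nat.cast_add, mul_add, mul_one, Nat.mul_div_cancel' hdiv1]
  congr 1
  split_ifs with hcd
  · rw [mul_comm (Fintype.card (NZ F n)), mul_assoc, Nat.mul_div_cancel' hdiv0, Nat.cast_mul]
    ring
  · simp

/-- The characters on eigenfunctions. -/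
noncomputable def pc (n : ℕ) (μ : Fˣ →* ℂˣ) : Matrix.SpecialLinearGroup (Fin n) F → ℂ :=
  pchar (NZ F n) μ

theorem classInner_pc (hn : 3 ≤ n) (μ ν : Fˣ →* ℂˣ) [Decidable (μ = ν)] [Decidable (μ = 1)] [Decidable (ν = 1)] :
    Cfsg.classInner (pc n μ) (pc n ν) =
      (if μ = ν then 1 else 0) + (if μ = 1 then 1 else 0) * (if ν = 1 then 1 else 0) := by
  classical
  rw [pc, pc, classInner_pchar (G := Matrix.SpecialLinearGroup (Fin n) F) (X := NZ F n)
    (fun c d : Fˣ => (if c = d then (Fintype.card Fˣ : ℂ) else 0) + 1) (two_point_count hn) μ ν]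
  set k := (Fintype.card Fˣ : ℂ)
  have hk : k ≠ 0 := Nat.cast_ne_zero.mpr Fintype.card_ne_zero
  have h1 : ∑ c : Fˣ, ∑ d : Fˣ, (μ c : ℂ) * (ν d⁻¹ : ℂ) = (∑ c : Fˣ, (μ c : ℂ)) * ∑ d : Fˣ, (ν d : ℂ) := by
    rw [Finset.sum_mul_sum]
    refine Finset.sum_congr rfl fun c _ => ?_
    exact Fintype.sum_equiv (Equiv.inv Fˣ) _ _ fun d => by simp
  have h2 : ∑ c : Fˣ, ∑ d : Fˣ, (μ c : ℂ) * (ν d⁻¹ : ℂ) * (if c = d then k else 0) =
      (∑ c : Fˣ, ((μ * ν⁻¹) c : ℂ)) * k := by
    rw [Finset.sum_mul]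
    refine Finset.sum_congr rfl fun c _ => ?_
    simp [mul_ite, Finset.sum_ite_eq, map_inv]
  have h3 : ∑ c : Fˣ, ((μ * ν⁻¹) c : ℂ) = if μ = ν then k else 0 := by
    rw [sum_units_hom]
    refine if_congr ⟨fun h => MonoidHom.ext fun c => ?_, fun h => MonoidHom.ext fun c => ?_⟩ rfl rfl
    · exact mul_inv_eq_one.mp (DFunLike.congr_fun h c)
    · subst h
      exact mul_inv_cancel _
  simp only [mul_add, Finset.sum_add_distrib, mul_one, h1, h2, h3, sum_units_hom]
  have hk0 : k ^ 2 ≠ 0 := pow_ne_zero 2 hk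
  split_ifs <;> simp [k, ← sq, inv_mul_cancel₀ hk0] <;> simp_all

theorem classInner_pc_one (hn : 3 ≤ n) (μ : Fˣ →* ℂˣ) [Decidable (μ = 1)] :
    Cfsg.classInner (pc n μ) (fun _ => 1) = if μ = 1 then 1 else 0 := by
  classical
  have : Nonempty (NZ F n) := ⟨⟨Pi.single ⟨0, by omega⟩ 1, fun h => one_ne_zero (α := F) (by
    simpa using congrFun h ⟨0, by omega⟩)⟩⟩
  exact classInner_pchar_one (fun a b => transitive_NZ (by omega) a b) μ

theorem pc_one_apply (g : Matrix.SpecialLinearGroup (Fin n) F) :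
    (Fintype.card Fˣ : ℂ) * pc n (1 : Fˣ →* ℂˣ) g = ∑ c : Fˣ, (Nat.card {x : NZ F n // g • x = c • x} : ℂ) := by
  rw [pc, pchar, ← mul_assoc, mul_inv_cancel₀ (Nat.cast_ne_zero.mpr Fintype.card_ne_zero), one_mul]
  simp

/-- The constituents of the permutation character other than the trivial one. -/
noncomputable def chi (n : ℕ) (μ : Fˣ →* ℂˣ) : Matrix.SpecialLinearGroup (Fin n) F → ℂ :=
  haveI := Classical.dec (μ = 1)
  pc n μ - if μ = 1 then (fun _ => (1 : ℂ)) else (0 : Matrix.SpecialLinearGroup (Fin n) F → ℂ)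

theorem classInner_chi (hn : 3 ≤ n) (μ ν : Fˣ →* ℂˣ) [Decidable (μ = ν)] :
    Cfsg.classInner (chi n μ) (chi n ν) = if μ = ν then 1 else 0 := by
  classical
  have h11 : Cfsg.classInner (fun _ : Matrix.SpecialLinearGroup (Fin n) F => (1 : ℂ)) (fun _ => 1) = 1 :=
    CfsgLib.Characters.classInner_isIrr_self CfsgLib.Characters.isIrr_one
  have h1p : ∀ ν : Fˣ →* ℂˣ, Cfsg.classInner (fun _ => 1) (pc n ν) = if ν = 1 then 1 else 0 := fun ν => by
    rw [CfsgLib.Characters.classInner_conj_symm (pc n ν), classInner_pc_one hn]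
    split_ifs <;> simp
  rw [chi, chi, CfsgLib.Characters.classInner_sub_left, CfsgLib.Characters.classInner_sub_right,
    CfsgLib.Characters.classInner_sub_right, classInner_pc hn]
  split_ifs <;> simp_all [classInner_pc_one hn, CfsgLib.Characters.classInner_zero_left,
    CfsgLib.Characters.classInner_zero_right]

theorem chi_apply_one (hn : 3 ≤ n) (μ : Fˣ →* ℂˣ) [Decidable (μ = 1)] :
    chi n μ 1 = (((Fintype.card F ^ n - 1) / (Fintype.card F - 1) : ℕ) : ℂ) - (if μ = 1 then 1 else 0) := by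
  classical
  have hK : Fintype.card Fˣ = Fintype.card F - 1 := Fintype.card_units (α := F)
  have hNZ : Fintype.card (NZ F n) = Fintype.card F ^ n - 1 := by
    rw [Fintype.card_subtype_compl, Fintype.card_subtype_eq, Fintype.card_fun, Fintype.card_fin]
  have hfix : ∀ c : Fˣ, Nat.card {x : NZ F n // (1 : Matrix.SpecialLinearGroup (Fin n) F) • x = c • x} =
      if c = 1 then Fintype.card F ^ n - 1 else 0 := by
    intro c
    split_ifs with hc
    · subst hc
      rw [← hNZ, ← Nat.card_eq_fintype_card]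
      exact Nat.card_congr (Equiv.subtypeUnivEquiv fun x => by rw [one_smul, one_smul])
    · rw [Nat.card_eq_zero]
      refine Or.inl ⟨fun ⟨x, hx⟩ => hc (Units.ext ?_)⟩
      rw [one_smul] at hx
      have h1 := congrArg Subtype.val hx
      rw [coe_smulScalar] at h1
      exact (smul_left_injective F x.2 ((one_smul F x.1).trans h1)).symm
  have hp : pc n μ 1 = (((Fintype.card F ^ n - 1) / (Fintype.card F - 1) : ℕ) : ℂ) := by
    rw [pc, pchar]
    simp only [hfix, Nat.cast_ite, Nat.cast_zero, mul_ite, mul_zero, Finset.sum_ite_eq', Finset.mem_univ, if_true,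
      map_one, Units.val_one, one_mul]
    rw [← hK, Nat.cast_div (by rw [hK]; exact Nat.sub_one_dvd_pow_sub_one _ n)
      (Nat.cast_ne_zero.mpr Fintype.card_ne_zero), inv_mul_eq_div]
  rw [chi, Pi.sub_apply, hp]
  split_ifs <;> simp

theorem isIrr_chi (hn : 3 ≤ n) (μ : Fˣ →* ℂˣ) : Cfsg.IsIrrCharacter (Matrix.SpecialLinearGroup (Fin n) F) (chi n μ) := by
  classical
  have hgen : Cfsg.IsGeneralizedCharacter _ (chi n μ) := by
    refine CfsgLib.Characters.isGen_sub (CfsgLib.Characters.isGen_of_isCharacter (isCharacter_pchar μ)) ?_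
    split_ifs
    · exact CfsgLib.Characters.isGen_of_isIrr CfsgLib.Characters.isIrr_one
    · exact CfsgLib.Characters.isGen_zero
  refine (CfsgLib.Characters.gen_norm_one hgen (by rw [classInner_chi hn, if_pos rfl])).resolve_right fun h => ?_
  obtain ⟨d, hd0, hd⟩ : ∃ d : ℕ, 0 < d ∧ (-chi n μ) 1 = d := by
    obtain ⟨m, ρ, hirr, hρ⟩ := h
    refine ⟨m, ?_, ?_⟩
    · rcases Nat.eq_zero_or_pos m with rfl | hm
      · have := CfsgLib.Characters.irr_one_ne_zero (G := Matrix.SpecialLinearGroup (Fin n) F) ⟨0, ρ, hirr, rfl⟩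
        exact absurd (by rw [Representation.char_one]; simp) this
      · exact hm
    · rw [← hρ, Representation.char_one]
      simp
  rw [Pi.neg_apply, chi_apply_one hn] at hd
  have hN : 1 ≤ (Fintype.card F ^ n - 1) / (Fintype.card F - 1) := by
    have hq : 1 < Fintype.card F := Fintype.one_lt_card
    rw [Nat.le_div_iff_mul_le (by omega), one_mul]
    exact Nat.sub_le_sub_right (Nat.le_self_pow (by omega) _) 1
  obtain ⟨M, hM⟩ := Nat.exists_eq_add_of_le hN
  rw [hM] at hd
  split_ifs at hd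
  · have : ((M + d : ℕ) : ℂ) = 0 := by push_cast at hd ⊢; linear_combination -hd
    rw [Nat.cast_eq_zero] at this; omega
  · have : ((1 + M + d : ℕ) : ℂ) = 0 := by push_cast at hd ⊢; linear_combination -hd
    rw [Nat.cast_eq_zero] at this; omega

/-- The permutation character on nonzero vectors. -/
theorem sum_chi (g : Matrix.SpecialLinearGroup (Fin n) F) [Fintype (Fˣ →* ℂˣ)] :
    (Nat.card {v : Fin n → F // v ≠ 0 ∧ g.1 *ᵥ v = v} : ℂ) = 1 + ∑ μ : Fˣ →* ℂˣ, chi n μ g := by
  classical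
  have hdual : Fintype.card (Fˣ →* ℂˣ) = Fintype.card Fˣ := by
    obtain ⟨e⟩ := CommGroup.monoidHom_mulEquiv_of_hasEnoughRootsOfUnity Fˣ ℂ
    exact Fintype.card_congr e.toEquiv
  have hsum : ∀ c : Fˣ, ∑ μ : Fˣ →* ℂˣ, (μ c : ℂ) = if c = 1 then (Fintype.card Fˣ : ℂ) else 0 := by
    intro c
    split_ifs with hc
    · simp [hc, hdual]
    · obtain ⟨φ, hφ⟩ := CommGroup.exists_apply_ne_one_of_hasEnoughRootsOfUnity Fˣ ℂ hc
      have h1 : (φ c : ℂ) * ∑ μ : Fˣ →* ℂˣ, (μ c : ℂ) = ∑ μ : Fˣ →* ℂˣ, (μ c : ℂ) := by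
        rw [Finset.mul_sum]
        exact Fintype.sum_equiv (Equiv.mulLeft φ) _ _ fun μ => by simp
      by_contra h0
      exact hφ (Units.ext ((mul_eq_right₀ h0).mp h1))
  have e1 : Nat.card {x : NZ F n // g • x = (1 : Fˣ) • x} = Nat.card {v : Fin n → F // v ≠ 0 ∧ g.1 *ᵥ v = v} := by
    refine Nat.card_congr ((Equiv.subtypeEquivRight fun x => ?_).trans
      (Equiv.subtypeSubtypeEquivSubtypeInter (fun v : Fin n → F => v ≠ 0) fun v => g.1 *ᵥ v = v))
    rw [one_smul, Subtype.ext_iff, coe_smulSL]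
  simp only [chi, Pi.sub_apply, Finset.sum_sub_distrib]
  have e2 : ∑ μ : Fˣ →* ℂˣ, pc n μ g = (Nat.card {x : NZ F n // g • x = (1 : Fˣ) • x} : ℂ) := by
    simp only [pc, pchar, ← Finset.mul_sum]
    rw [Finset.sum_comm]
    simp only [← Finset.sum_mul, hsum, ite_mul, zero_mul, Finset.sum_ite_eq', Finset.mem_univ, if_true]
    rw [← mul_assoc, inv_mul_cancel₀ (Nat.cast_ne_zero.mpr Fintype.card_ne_zero), one_mul]
  rw [e2, e1, Finset.sum_eq_single (1 : Fˣ →* ℂˣ)]
  · simp
  · intro μ _ hμ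
    simp [hμ]
  · simp

end SL

end CfsgLib.LinearPoints
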